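import Groth.Agent.Lib.SGA1Quot21.Points
import Groth.Agent.Lib.SGA1Quot21.Descend
import Groth.Prelude.Def_Flat
import Mathlib.AlgebraicGeometry.Morphisms.UniversallyInjective
import Mathlib.AlgebraicGeometry.Morphisms.Integral
import Mathlib.AlgebraicGeometry.Morphisms.SchemeTheoreticallyDominant

/-!
# Comparison morphisms out of quotients by finite groups
-/

universe u

open CategoryTheory CategoryTheory.Limits AlgebraicGeometry TopologicalSpace

namespace GrothLib.Quot17

/-- An integral, universally injective surjection is a universal homeomorphism. -/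
theorem isUnivHomeo_of_integral {X Y : Scheme.{u}} (m : X ⟶ Y) [IsIntegralHom m]
    [UniversallyInjective m] [Surjective m] : FlatMor.IsUnivHomeo m := by
  intro P Q a b p h
  haveI : IsIntegralHom p := MorphismProperty.of_isPullback h.flip inferInstance
  haveI : UniversallyInjective p := MorphismProperty.of_isPullback h.flip inferInstance
  haveI : Surjective p := MorphismProperty.of_isPullback h.flip inferInstance
  exact isHomeomorph_iff_continuous_isClosedMap_bijective.2
    ⟨p.continuous, p.isClosedMap, p.injective, p.surjective⟩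

theorem ker_toImage {X Y : Scheme.{u}} (f : X ⟶ Y) [QuasiCompact f] : f.toImage.ker = ⊥ := by
  refine le_bot_iff.1 (Scheme.IdealSheafData.le_of_iSup_eq_top
    (fun U : Y.affineOpens => (⟨f.imageι ⁻¹ᵁ U.1, U.2.preimage f.imageι⟩ : f.image.affineOpens)) ?_
    fun U => ?_)
  · rw [eq_top_iff]
    intro x _
    obtain ⟨U, hU⟩ := TopologicalSpace.Opens.mem_iSup.1
      ((iSup_affineOpens_eq_top Y).ge (trivial : f.imageι x ∈ (⊤ : Y.Opens)))
    exact TopologicalSpace.Opens.mem_iSup.2 ⟨U, hU⟩
  · rw [Scheme.Hom.ker_apply, (RingHom.injective_iff_ker_eq_bot _).1 (f.toImage_app_injective U)]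
    exact bot_le

variable {X Y Z W : Scheme.{u}} {G : Type u} [Group G] [Finite G] {ρ : G →* Aut X} {r : X ⟶ Y}

/-- A map from a quotient which separates orbits on field points is universally injective. -/
theorem universallyInjective_of_orbit (hr : SGA1.IsQuot ρ r) (m : Y ⟶ Z)
    (h : ∀ (K : Type u) [Field K] (x₁ x₂ : Spec (CommRingCat.of K) ⟶ X),
      x₁ ≫ r ≫ m = x₂ ≫ r ≫ m → ∃ g : G, x₁ ≫ (ρ g).hom = x₂) :
    UniversallyInjective m := by
  rw [UniversallyInjective.iff_diagonal, surjective_iff]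
  intro z
  haveI : Surjective r := ⟨SGA1Quot21.surjective hr⟩
  let μ : pullback (r ≫ m) (r ≫ m) ⟶ pullback m m :=
    pullback.map (r ≫ m) (r ≫ m) m m r r (𝟙 _) (Category.comp_id _) (Category.comp_id _)
  haveI : Surjective μ :=
    MorphismProperty.pullbackMap (P := @Surjective) inferInstance inferInstance rfl rfl
  obtain ⟨w, hw⟩ := μ.surjective z
  let φ := (pullback (r ≫ m) (r ≫ m)).fromSpecResidueField w
  obtain ⟨g, hg⟩ := h _ (φ ≫ pullback.fst _ _) (φ ≫ pullback.snd _ _)
    (by rw [Category.assoc, Category.assoc, pullback.condition])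
  have h1 : φ ≫ μ = (φ ≫ pullback.fst _ _ ≫ r) ≫ pullback.diagonal m := by
    apply pullback.hom_ext
    · simp [μ, pullback.lift_fst]
    · simp only [μ, Category.assoc, pullback.lift_snd, pullback.diagonal_snd, Category.comp_id]
      exact (Category.assoc _ _ _).symm.trans ((congrArg (· ≫ r) hg).symm.trans (by rw [Category.assoc, Category.assoc, hr.inv]; rfl))
  refine ⟨(φ ≫ pullback.fst _ _ ≫ r) (IsLocalRing.closedPoint _), ?_⟩
  rw [← Scheme.Hom.comp_apply, ← h1, Scheme.Hom.comp_apply, Scheme.fromSpecResidueField_apply, hw]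

theorem isIntegralHom_of_comp (hr : SGA1.IsQuot ρ r) (m : Y ⟶ Z) [IsIntegralHom (r ≫ m)] :
    IsIntegralHom m := by
  haveI := SGA1Quot21.isAffineHom_of_comp hr m
  haveI : Surjective r := ⟨SGA1Quot21.surjective hr⟩
  haveI := UniversallyClosed.of_comp_surjective r m
  exact IsIntegralHom.iff_universallyClosed_and_isAffineHom.2 ⟨inferInstance, inferInstance⟩

theorem isUnivHomeo_baseChange {S S' Y' : Scheme.{u}} (f : X ⟶ S) (h : Y ⟶ S) (hq : r ≫ h = f)
    (hr : SGA1.IsQuot ρ r) (g : S' ⟶ S) (ρ' : G →* Aut (pullback f g))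
    (hρ' : ∀ σ : G, (ρ' σ).hom ≫ pullback.fst f g = pullback.fst f g ≫ (ρ σ).hom ∧
      (ρ' σ).hom ≫ pullback.snd f g = pullback.snd f g)
    (r' : pullback f g ⟶ Y') (hr' : SGA1.IsQuot ρ' r') (m : Y' ⟶ pullback h g)
    (hm : r' ≫ m = pullback.map f g h g r (𝟙 S') (𝟙 S)
      ((Category.comp_id f).trans hq.symm) ((Category.comp_id g).trans (Category.id_comp g).symm)) :
    FlatMor.IsUnivHomeo m := by
  haveI := SGA1Quot21.isIntegralHom hr
  haveI : Surjective r := ⟨SGA1Quot21.surjective hr⟩
  haveI : IsIntegralHom (r' ≫ m) := by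
    rw [hm]
    exact MorphismProperty.pullbackMap (P := @IsIntegralHom) inferInstance inferInstance hq.symm
      (Category.id_comp g).symm
  haveI : Surjective (r' ≫ m) := by
    rw [hm]
    exact MorphismProperty.pullbackMap (P := @Surjective) inferInstance inferInstance hq.symm
      (Category.id_comp g).symm
  haveI := isIntegralHom_of_comp hr' m
  haveI : Surjective m := Surjective.of_comp r' m
  haveI : UniversallyInjective m := universallyInjective_of_orbit hr' m fun K _ x₁ x₂ e => by
    have e1 := congrArg (· ≫ pullback.fst h g) e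
    have e2 := congrArg (· ≫ pullback.snd h g) e
    simp only [hm, Category.assoc, pullback.lift_fst, pullback.lift_snd, Category.comp_id] at e1 e2
    obtain ⟨σ, hσ⟩ := SGA1Quot21.exists_comp_eq hr (x₁ ≫ pullback.fst f g) (x₂ ≫ pullback.fst f g)
      (by rwa [Category.assoc, Category.assoc])
    refine ⟨σ, pullback.hom_ext ?_ ?_⟩
    · rw [Category.assoc, (hρ' σ).1, ← Category.assoc, hσ]
    · rw [Category.assoc, (hρ' σ).2, e2]
  exact isUnivHomeo_of_integral m

theorem isUnivHomeo_closedSubscheme (hr : SGA1.IsQuot ρ r) (i : Z ⟶ X) [IsClosedImmersion i]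
    (ρZ : G →* Aut Z) (hρZ : ∀ σ : G, (ρZ σ).hom ≫ i = i ≫ (ρ σ).hom)
    (rZ : Z ⟶ W) (hrZ : SGA1.IsQuot ρZ rZ)
    (m : W ⟶ (i ≫ r).ker.subscheme) (hm : rZ ≫ m ≫ (i ≫ r).ker.subschemeι = i ≫ r) :
    FlatMor.IsUnivHomeo m ∧ IsSchemeTheoreticallyDominant m := by
  haveI := SGA1Quot21.isIntegralHom hr
  have htI : rZ ≫ m = (i ≫ r).toImage := by
    rw [← cancel_mono (i ≫ r).imageι, Category.assoc, Scheme.Hom.toImage_imageι]
    exact hm
  haveI : IsIntegralHom ((i ≫ r).toImage ≫ (i ≫ r).imageι) := by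
    rw [Scheme.Hom.toImage_imageι]; infer_instance
  haveI : IsIntegralHom (rZ ≫ m) := by
    rw [htI]
    exact MorphismProperty.of_postcomp (W := @IsIntegralHom) (W' := @IsSeparated) _
      (i ≫ r).imageι inferInstance inferInstance
  haveI := isIntegralHom_of_comp hrZ m
  haveI : Surjective (rZ ≫ m) := by
    rw [htI]
    haveI : IsIntegralHom (i ≫ r).toImage := htI ▸ inferInstance
    refine ⟨fun y => ?_⟩
    have h1 : closure (Set.range (i ≫ r).toImage) = Set.univ :=
      (i ≫ r).toImage.denseRange.closure_range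
    rw [(i ≫ r).toImage.isClosedMap.isClosed_range.closure_eq] at h1
    exact h1.ge trivial
  haveI : Surjective m := Surjective.of_comp rZ m
  haveI : UniversallyInjective m := universallyInjective_of_orbit hrZ m fun K _ x₁ x₂ e => by
    have e1 := congrArg (· ≫ (i ≫ r).ker.subschemeι) e
    simp only [Category.assoc, hm] at e1
    obtain ⟨σ, hσ⟩ := SGA1Quot21.exists_comp_eq hr (x₁ ≫ i) (x₂ ≫ i)
      (by rwa [Category.assoc, Category.assoc])
    refine ⟨σ, ?_⟩
    rw [← cancel_mono i, Category.assoc, hρZ, ← Category.assoc, hσ]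
  refine ⟨isUnivHomeo_of_integral m, ⟨?_⟩⟩
  refine le_bot_iff.1 (le_trans (Scheme.Hom.le_ker_comp rZ m) ?_)
  rw [htI]
  exact le_of_eq (ker_toImage (i ≫ r))

end GrothLib.Quot17
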