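import Groth.Agent.Lib.SGA1Quot21.Basic
import Mathlib.AlgebraicGeometry.ProjectiveSpectrum.Basic
import Mathlib.AlgebraicGeometry.Morphisms.Affine
import Mathlib.RingTheory.Invariant.Basic
import Mathlib.RingTheory.Polynomial.Vieta

/-!
# Quotients of `Proj` by finite groups
-/

set_option autoImplicit false
set_option backward.isDefEq.respectTransparency false

universe u

open CategoryTheory AlgebraicGeometry TopologicalSpace HomogeneousLocalization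

namespace GrothLib.Quot17

section Charts

variable {A σ : Type u} [CommRing A] [SetLike σ A] [AddSubgroupClass σ A] (𝒜 : ℕ → σ) [GradedRing 𝒜]
  (f : A) {n : ℕ} (hf : f ∈ 𝒜 n) (hn : 0 < n)

theorem preimage_eq_top {W : (Proj 𝒜).Opens} (hW : W = Proj.basicOpen 𝒜 f) :
    Proj.awayι 𝒜 f hf hn ⁻¹ᵁ W = ⊤ := by
  rw [hW, ← Proj.opensRange_awayι 𝒜 f hf hn]
  exact Scheme.Hom.preimage_opensRange _

/-- Sections over a chart. -/
noncomputable def chartSec {W : (Proj 𝒜).Opens} (hW : W = Proj.basicOpen 𝒜 f) :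
    Γ(Proj 𝒜, W) ⟶ CommRingCat.of (Away 𝒜 f) :=
  (Proj.awayι 𝒜 f hf hn).appLE W ⊤ (preimage_eq_top 𝒜 f hf hn hW).ge ≫
    (Scheme.ΓSpecIso (CommRingCat.of (Away 𝒜 f))).hom

instance isIso_chartSec {W : (Proj 𝒜).Opens} (hW : W = Proj.basicOpen 𝒜 f) :
    IsIso (chartSec 𝒜 f hf hn hW) := by
  have h : W ≤ (Proj.awayι 𝒜 f hf hn).opensRange := by
    rw [Proj.opensRange_awayι, hW]
  haveI := (Proj.awayι 𝒜 f hf hn).isIso_app W h
  haveI : IsIso ((Proj.awayι 𝒜 f hf hn).appLE W ⊤ (preimage_eq_top 𝒜 f hf hn hW).ge) := by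
    rw [Scheme.Hom.appLE]
    have := preimage_eq_top 𝒜 f hf hn hW
    have : IsIso (homOfLE (preimage_eq_top 𝒜 f hf hn hW).ge) :=
      ⟨homOfLE this.le, rfl, rfl⟩
    infer_instance
  rw [chartSec]
  infer_instance

end Charts

theorem appLE_congr_mor {X Y : Scheme.{u}} {f f' : X ⟶ Y} (h : f = f') {U : Y.Opens} {W : X.Opens}
    (e : W ≤ f ⁻¹ᵁ U) : f.appLE U W e = f'.appLE U W (h ▸ e) := by subst h; rfl

theorem chart_naturality {A B σ τ : Type u} [CommRing A] [SetLike σ A] [AddSubgroupClass σ A]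
    [CommRing B] [SetLike τ B] [AddSubgroupClass τ B]
    (𝒜 : ℕ → σ) [GradedRing 𝒜] (ℬ : ℕ → τ) [GradedRing ℬ]
    {f : A} {n : ℕ} (hf : f ∈ 𝒜 n) (hn : 0 < n) {g : B} {m : ℕ} (hg : g ∈ ℬ m) (hm : 0 < m)
    (θ : CommRingCat.of (Away ℬ g) ⟶ CommRingCat.of (Away 𝒜 f)) (π : Proj 𝒜 ⟶ Proj ℬ)
    (h : Proj.awayι 𝒜 f hf hn ≫ π = Spec.map θ ≫ Proj.awayι ℬ g hg hm)
    {W : (Proj ℬ).Opens} (hW : W = Proj.basicOpen ℬ g) {V : (Proj 𝒜).Opens}
    (hV : V = Proj.basicOpen 𝒜 f) (e : V ≤ π ⁻¹ᵁ W) :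
    π.appLE W V e ≫ chartSec 𝒜 f hf hn hV = chartSec ℬ g hg hm hW ≫ θ := by
  rw [chartSec, chartSec, Category.assoc, Scheme.Hom.appLE_comp_appLE_assoc, appLE_congr_mor h,
    ← Scheme.Hom.appLE_comp_appLE _ _ W ⊤ ⊤ (preimage_eq_top ℬ g hg hm hW).ge le_top]
  rw [Category.assoc]
  congr 1
  have e2 : (Spec.map θ).appLE ⊤ ⊤ le_top = (Spec.map θ).appTop := (Scheme.Hom.appLE_eq_app _)
  rw [e2, Scheme.ΓSpecIso_naturality]

/-- Change of the element inverted. -/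
noncomputable def congrAway {A σ : Type u} [CommRing A] [SetLike σ A] [AddSubgroupClass σ A]
    (𝒜 : ℕ → σ) [GradedRing 𝒜] {f f' : A} (h : f = f') : Away 𝒜 f →+* Away 𝒜 f' := by
  subst h; exact RingHom.id _

theorem congrAway_mk {A σ : Type u} [CommRing A] [SetLike σ A] [AddSubgroupClass σ A]
    (𝒜 : ℕ → σ) [GradedRing 𝒜] {f f' : A} (h : f = f') {d : ℕ} (hf : f ∈ 𝒜 d) (k : ℕ) (x : A)
    (hx : x ∈ 𝒜 (k • d)) :
    congrAway 𝒜 h (Away.mk 𝒜 hf k x hx) = Away.mk 𝒜 (h ▸ hf) k x hx := by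
  subst h; rfl

theorem awayι_congr {A σ : Type u} [CommRing A] [SetLike σ A] [AddSubgroupClass σ A]
    (𝒜 : ℕ → σ) [GradedRing 𝒜] {f f' : A} (h : f = f') {n : ℕ} (hf : f ∈ 𝒜 n) (hn : 0 < n) :
    Proj.awayι 𝒜 f' (h ▸ hf) hn =
      Spec.map (CommRingCat.ofHom (congrAway 𝒜 h)) ≫ Proj.awayι 𝒜 f hf hn := by
  subst h
  simp [congrAway]

section Quotient

variable {R A : Type u} [CommRing R] [CommRing A] [Algebra R A] (𝒜 : ℕ → Submodule R A)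
  [GradedAlgebra 𝒜] (hgen : Algebra.adjoin R (𝒜 1 : Set A) = ⊤)
  {G : Type u} [Group G] [Finite G] [MulSemiringAction G A]
  (hGdeg : ∀ (g : G) (i : ℕ) (a : A), a ∈ 𝒜 i → g • a ∈ 𝒜 i)
  {C : Type u} [CommRing C] [Algebra R C] (𝒞 : ℕ → Submodule R C) [GradedAlgebra 𝒞]
  (ι : C →ₐ[R] A) (hι : Function.Injective ι)
  (hιdeg : ∀ (i : ℕ) (a : A), a ∈ (𝒞 i).map ι.toLinearMap ↔ (a ∈ 𝒜 i ∧ ∀ g : G, g • a = a))

/-- The graded automorphism of a group element. -/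
def gAct (g : G) : 𝒜 →+*ᵍ 𝒜 where
  toRingHom := MulSemiringAction.toRingHom G A g
  map_mem h := hGdeg g _ _ h

include hιdeg in
theorem mem_of_mem {i : ℕ} {c : C} (hc : c ∈ 𝒞 i) : ι c ∈ 𝒜 i ∧ ∀ g : G, g • ι c = ι c :=
  (hιdeg i (ι c)).1 (Submodule.mem_map_of_mem hc)

/-- The graded inclusion of the invariants. -/
def gIncl : 𝒞 →+*ᵍ 𝒜 where
  toRingHom := ι.toRingHom
  map_mem h := (mem_of_mem 𝒜 𝒞 ι hιdeg h).1

include hgen in
theorem exists_deg_one_notMem (x : Proj 𝒜) :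
    ∃ f ∈ 𝒜 1, f ∉ x.asHomogeneousIdeal := by
  by_contra! H
  refine x.not_irrelevant_le fun a ha => ?_
  have key : ∀ b : A, b - (DirectSum.decompose 𝒜 b 0 : A) ∈ x.asHomogeneousIdeal.toIdeal := by
    intro b
    have hb : b ∈ Algebra.adjoin R (𝒜 1 : Set A) := hgen ▸ Algebra.mem_top
    induction hb using Algebra.adjoin_induction with
    | mem c hc =>
      rw [DirectSum.decompose_of_mem_ne 𝒜 hc Nat.one_ne_zero, sub_zero]
      exact H c hc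
    | algebraMap r =>
      rw [DirectSum.decompose_of_mem_same 𝒜 (SetLike.algebraMap_mem_graded 𝒜 r), sub_self]
      exact zero_mem _
    | add c d _ _ hc hd =>
      rw [DirectSum.decompose_add, DirectSum.add_apply, Submodule.coe_add, add_sub_add_comm]
      exact add_mem hc hd
    | mul c d _ _ hc hd =>
      have h0 : ((DirectSum.decompose 𝒜 (c * d)) 0 : A) =
          (DirectSum.decompose 𝒜 c 0 : A) * (DirectSum.decompose 𝒜 d 0 : A) :=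
        (GradedRing.projZeroRingHom 𝒜).map_mul c d
      have e : c * d - (DirectSum.decompose 𝒜 c 0 : A) * (DirectSum.decompose 𝒜 d 0 : A) =
          (c - (DirectSum.decompose 𝒜 c 0 : A)) * d +
            (DirectSum.decompose 𝒜 c 0 : A) * (d - (DirectSum.decompose 𝒜 d 0 : A)) := by ring
      rw [h0, e]
      exact add_mem (Ideal.mul_mem_right _ _ hc) (Ideal.mul_mem_left _ _ hd)
  have h := key a
  rwa [show (DirectSum.decompose 𝒜 a 0 : A) = 0 from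
    (HomogeneousIdeal.mem_irrelevant_iff 𝒜 a).1 ha, sub_zero] at h

include hgen hGdeg hιdeg in
theorem exists_invariant_notMem (x : Proj 𝒜) :
    ∃ (k : ℕ) (c : C), 0 < k ∧ c ∈ 𝒞 k ∧ ι c ∉ x.asHomogeneousIdeal := by
  classical
  letI := Fintype.ofFinite G
  obtain ⟨f, hf, hfx⟩ := exists_deg_one_notMem 𝒜 hgen x
  by_contra! H
  let P := x.asHomogeneousIdeal.toIdeal
  haveI : P.IsPrime := x.isPrime
  let p := MulSemiringAction.charpoly G f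
  have hcard : 0 < Fintype.card G := Fintype.card_pos
  haveI : Nontrivial A := nontrivial_of_ne f 0 fun h => hfx (h ▸ zero_mem _)
  have hp : p.natDegree = Fintype.card G := by
    simp [p, MulSemiringAction.charpoly_eq, Polynomial.natDegree_prod_of_monic,
      Polynomial.monic_X_sub_C]
  have hcoeff : ∀ k < Fintype.card G, p.coeff k ∈ P := by
    intro k hk
    have hmem : p.coeff k ∈ 𝒜 (Fintype.card G - k) := by
      let s : Multiset A := Finset.univ.val.map fun g : G => g • f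
      have hs : s.card = Fintype.card G := (Multiset.card_map _ _).trans rfl
      have hps : p = (s.map fun t => Polynomial.X - Polynomial.C t).prod := by
        rw [Multiset.map_map]; rfl
      rw [hps, Multiset.prod_X_sub_C_coeff s (hs ▸ hk.le), hs]
      have hes : s.esymm (Fintype.card G - k) ∈ 𝒜 (Fintype.card G - k) := by
        rw [Multiset.esymm]
        have h1 : ∀ t ∈ s.powersetCard (Fintype.card G - k), t.prod ∈ 𝒜 (Fintype.card G - k) := by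
          intro t ht
          obtain ⟨hle, hcard'⟩ := Multiset.mem_powersetCard.1 ht
          have h2 : ∀ t : Multiset A, (∀ a ∈ t, a ∈ 𝒜 1) → t.prod ∈ 𝒜 t.card := by
            intro t
            induction t using Multiset.induction_on with
            | empty => intro _; simpa using SetLike.one_mem_graded 𝒜
            | cons a t ih =>
              intro h
              rw [Multiset.prod_cons, Multiset.card_cons, add_comm]
              exact SetLike.mul_mem_graded (h a (Multiset.mem_cons_self _ _))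
                (ih fun b hb => h b (Multiset.mem_cons_of_mem hb))
          rw [← hcard']
          refine h2 t fun a ha => ?_
          obtain ⟨g, -, rfl⟩ := Multiset.mem_map.1 (Multiset.mem_of_le hle ha)
          exact hGdeg g 1 f hf
        refine multiset_sum_mem _ fun a ha => ?_
        obtain ⟨t, ht, rfl⟩ := Multiset.mem_map.1 ha
        exact h1 t ht
      rcases neg_one_pow_eq_or A (Fintype.card G - k) with e | e <;> rw [e]
      · rwa [one_mul]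
      · rw [neg_one_mul]; exact neg_mem hes
    obtain ⟨c, hc, hce⟩ := (hιdeg (Fintype.card G - k) (p.coeff k)).2
      ⟨hmem, fun g => MulSemiringAction.smul_coeff_charpoly f k g⟩
    rw [← hce]
    exact H _ c (Nat.sub_pos_of_lt hk) hc
  have he := MulSemiringAction.eval_charpoly G f
  rw [Polynomial.eval_eq_sum_range, hp, Finset.sum_range_succ] at he
  have hmon : p.coeff (Fintype.card G) = 1 := hp ▸ (MulSemiringAction.monic_charpoly G f).coeff_natDegree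
  rw [hmon, one_mul] at he
  refine hfx (Ideal.IsPrime.mem_of_pow_mem (I := P) inferInstance (Fintype.card G) ?_)
  rw [eq_neg_of_add_eq_zero_right he]
  exact neg_mem (sum_mem fun k hk => Ideal.mul_mem_right _ _ (hcoeff k (Finset.mem_range.1 hk)))

/-- Degree-zero fractions of the invariants, inside those of the ring. -/
noncomputable def incl (c : C) : Away 𝒞 c →+* Away 𝒜 (ι c) :=
  Away.map (gIncl 𝒜 𝒞 ι hιdeg) c

theorem incl_mk {k : ℕ} {c : C} (hc : c ∈ 𝒞 k) (m : ℕ) (a : C) (ha : a ∈ 𝒞 (m • k)) :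
    incl 𝒜 𝒞 ι hιdeg c (Away.mk 𝒞 hc m a ha) =
      Away.mk 𝒜 (mem_of_mem 𝒜 𝒞 ι hιdeg hc).1 m (ι a) (mem_of_mem 𝒜 𝒞 ι hιdeg ha).1 :=
  Away.map_mk (gIncl 𝒜 𝒞 ι hιdeg) c hc m a ha

/-- The action on degree-zero fractions with invariant denominator. -/
noncomputable def actAway {k : ℕ} {c : C} (hc : c ∈ 𝒞 k) (g : G) :
    Away 𝒜 (ι c) →+* Away 𝒜 (ι c) :=
  (congrAway 𝒜 ((mem_of_mem 𝒜 𝒞 ι hιdeg hc).2 g)).comp (Away.map (gAct 𝒜 hGdeg g) (ι c))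

theorem actAway_mk {k : ℕ} {c : C} (hc : c ∈ 𝒞 k) (g : G) (m : ℕ) (x : A) (hx : x ∈ 𝒜 (m • k)) :
    actAway 𝒜 hGdeg 𝒞 ι hιdeg hc g (Away.mk 𝒜 (mem_of_mem 𝒜 𝒞 ι hιdeg hc).1 m x hx) =
      Away.mk 𝒜 (mem_of_mem 𝒜 𝒞 ι hιdeg hc).1 m (g • x) (hGdeg g _ _ hx) := by
  rw [actAway, RingHom.comp_apply]
  refine (congrArg _ (Away.map_mk (gAct 𝒜 hGdeg g) (ι c) (mem_of_mem 𝒜 𝒞 ι hιdeg hc).1 m x hx)).trans ?_
  exact congrAway_mk 𝒜 _ _ _ _ _

include hι in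
theorem incl_injective {k : ℕ} {c : C} (hc : c ∈ 𝒞 k) :
    Function.Injective (incl 𝒜 𝒞 ι hιdeg c) := by
  rw [injective_iff_map_eq_zero]
  intro z hz
  obtain ⟨m, a, ha, rfl⟩ := Away.mk_surjective 𝒞 hc z
  rw [incl_mk] at hz
  have hz' := congrArg HomogeneousLocalization.val hz
  rw [Away.val_mk, val_zero, Localization.mk_eq_mk', IsLocalization.mk'_eq_zero_iff] at hz'
  obtain ⟨⟨_, l, rfl⟩, hl⟩ := hz'
  have h2 : c ^ l * a = 0 := hι (by rw [map_mul, map_pow, map_zero]; exact hl)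
  ext
  rw [Away.val_mk, val_zero, Localization.mk_eq_mk', IsLocalization.mk'_eq_zero_iff]
  exact ⟨⟨_, l, rfl⟩, h2⟩

theorem mem_range_incl {k : ℕ} {c : C} (hc : c ∈ 𝒞 k) (z : Away 𝒜 (ι c))
    (h : ∀ g : G, actAway 𝒜 hGdeg 𝒞 ι hιdeg hc g z = z) :
    z ∈ Set.range (incl 𝒜 𝒞 ι hιdeg c) := by
  classical
  letI := Fintype.ofFinite G
  obtain ⟨m, x, hx, rfl⟩ := Away.mk_surjective 𝒜 (mem_of_mem 𝒜 𝒞 ι hιdeg hc).1 z
  have h1 : ∀ g : G, ∃ l : ℕ, ι c ^ l * (g • x) = ι c ^ l * x := fun g => by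
    have := congrArg HomogeneousLocalization.val (h g)
    rw [actAway_mk, Away.val_mk, Away.val_mk, Localization.mk_eq_mk', IsLocalization.mk'_eq_iff_eq,
      mul_comm, mul_comm (a := (ι c) ^ m), IsLocalization.eq_iff_exists (Submonoid.powers (ι c))] at this
    obtain ⟨⟨_, l, rfl⟩, hl⟩ := this
    refine ⟨l + m, ?_⟩
    rw [pow_add]
    convert hl using 1 <;> ring
  choose l hl using h1
  let L := Finset.univ.sup l
  have hinv : ∀ g : G, g • (ι c ^ L * x) = ι c ^ L * x := fun g => by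
    obtain ⟨j, hj⟩ := Nat.exists_eq_add_of_le (Finset.le_sup (f := l) (Finset.mem_univ g))
    rw [smul_mul', smul_pow', (mem_of_mem 𝒜 𝒞 ι hιdeg hc).2 g, show L = l g + j from hj, pow_add,
      mul_comm (ι c ^ l g), mul_assoc, hl g, mul_assoc]
  have hdeg : ι c ^ L * x ∈ 𝒜 ((L + m) • k) := by
    rw [add_smul]
    exact SetLike.mul_mem_graded (SetLike.pow_mem_graded L (mem_of_mem 𝒜 𝒞 ι hιdeg hc).1) hx
  obtain ⟨b, hb, hbe⟩ := (hιdeg _ _).2 ⟨hdeg, hinv⟩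
  refine ⟨Away.mk 𝒞 hc (L + m) b hb, ?_⟩
  rw [incl_mk]
  ext
  rw [Away.val_mk, Away.val_mk, Localization.mk_eq_mk', IsLocalization.mk'_eq_iff_eq]
  refine congrArg _ ?_
  change ι c ^ m * ι b = ι c ^ (L + m) * x
  rw [show ι b = ι c ^ L * x from hbe, pow_add]
  ring

variable (ρ : G →* Aut (Proj 𝒜))
  (hρ : ∀ (g : G) (n : ℕ) (f : A) (hn : 0 < n) (hf : f ∈ 𝒜 n)
    (θ : CommRingCat.of (Away 𝒜 f) ⟶ CommRingCat.of (Away 𝒜 (g • f))),
    (algebraMap (Away 𝒜 (g • f)) (Localization.Away (g • f))).comp θ.hom =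
      (Localization.awayMap (MulSemiringAction.toRingHom G A g) f).comp
        (algebraMap (Away 𝒜 f) (Localization.Away f)) →
    Proj.awayι 𝒜 (g • f) (hGdeg g n f hf) hn ≫ (ρ g).inv = Spec.map θ ≫ Proj.awayι 𝒜 f hf hn)
  (π : Proj 𝒜 ⟶ Proj 𝒞)
  (hπ : ∀ (n : ℕ) (c : C) (hn : 0 < n) (hc : c ∈ 𝒞 n)
    (θ : CommRingCat.of (Away 𝒞 c) ⟶ CommRingCat.of (Away 𝒜 (ι c))),
    (algebraMap (Away 𝒜 (ι c)) (Localization.Away (ι c))).comp θ.hom =
      (Localization.awayMap ι.toRingHom c).comp (algebraMap (Away 𝒞 c) (Localization.Away c)) →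
    Proj.awayι 𝒜 (ι c) ((hιdeg n (ι c)).mp (Submodule.mem_map_of_mem hc)).1 hn ≫ π =
      Spec.map θ ≫ Proj.awayι 𝒞 c hc hn)

include hπ in
theorem awayι_π {k : ℕ} {c : C} (hk : 0 < k) (hc : c ∈ 𝒞 k) :
    Proj.awayι 𝒜 (ι c) (mem_of_mem 𝒜 𝒞 ι hιdeg hc).1 hk ≫ π =
      Spec.map (CommRingCat.ofHom (incl 𝒜 𝒞 ι hιdeg c)) ≫ Proj.awayι 𝒞 c hc hk := by
  refine hπ k c hk hc _ (RingHom.ext fun z => ?_)
  obtain ⟨m, a, ha, rfl⟩ := Away.mk_surjective 𝒞 hc z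
  change (incl 𝒜 𝒞 ι hιdeg c (Away.mk 𝒞 hc m a ha)).val =
    Localization.awayMap ι.toRingHom c (Away.mk 𝒞 hc m a ha).val
  rw [incl_mk, Away.val_mk, Away.val_mk, Localization.awayMap, IsLocalization.Away.map]
  simp only [Localization.mk_eq_mk']
  erw [IsLocalization.map_mk']
  congr 1
  exact Subtype.ext (map_pow ι c m).symm

include hρ in
theorem awayι_act {k : ℕ} {c : C} (hk : 0 < k) (hc : c ∈ 𝒞 k) (g : G) :
    Proj.awayι 𝒜 (ι c) (mem_of_mem 𝒜 𝒞 ι hιdeg hc).1 hk ≫ (ρ g).inv =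
      Spec.map (CommRingCat.ofHom (actAway 𝒜 hGdeg 𝒞 ι hιdeg hc g)) ≫
        Proj.awayι 𝒜 (ι c) (mem_of_mem 𝒜 𝒞 ι hιdeg hc).1 hk := by
  have hf := (mem_of_mem 𝒜 𝒞 ι hιdeg hc).1
  have h1 := hρ g k (ι c) hk hf (CommRingCat.ofHom (Away.map (gAct 𝒜 hGdeg g) (ι c))) (RingHom.ext fun z => by
    obtain ⟨m, a, ha, rfl⟩ := Away.mk_surjective 𝒜 hf z
    change (Away.map (gAct 𝒜 hGdeg g) (ι c) (Away.mk 𝒜 hf m a ha)).val =
      Localization.awayMap (MulSemiringAction.toRingHom G A g) (ι c) (Away.mk 𝒜 hf m a ha).val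
    rw [Away.map_mk, Away.val_mk, Away.val_mk, Localization.awayMap, IsLocalization.Away.map]
    simp only [Localization.mk_eq_mk']
    erw [IsLocalization.map_mk']
    congr 1
    exact Subtype.ext (map_pow (gAct 𝒜 hGdeg g).toRingHom (ι c) m).symm)
  have h2 := awayι_congr 𝒜 ((mem_of_mem 𝒜 𝒞 ι hιdeg hc).2 g) (hGdeg g k _ hf) hk
  calc Proj.awayι 𝒜 (ι c) hf hk ≫ (ρ g).inv
      = Spec.map (CommRingCat.ofHom (congrAway 𝒜 ((mem_of_mem 𝒜 𝒞 ι hιdeg hc).2 g))) ≫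
          Proj.awayι 𝒜 (g • ι c) (hGdeg g k _ hf) hk ≫ (ρ g).inv := by
        rw [← Category.assoc]; exact congrArg (· ≫ (ρ g).inv) h2
    _ = _ := by rw [h1, ← Spec.map_comp_assoc]; rfl

include hgen hGdeg hπ in
theorem preimage_basicOpen {k : ℕ} {c : C} (hk : 0 < k) (hc : c ∈ 𝒞 k) :
    π ⁻¹ᵁ Proj.basicOpen 𝒞 c = Proj.basicOpen 𝒜 (ι c) := by
  ext1
  ext x
  obtain ⟨l, d, hl, hd, hdx⟩ := exists_invariant_notMem 𝒜 hgen hGdeg 𝒞 ι hιdeg x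
  have hx : x ∈ (Proj.awayι 𝒜 (ι d) (mem_of_mem 𝒜 𝒞 ι hιdeg hd).1 hl).opensRange := by
    rw [Proj.opensRange_awayι]
    exact (Proj.mem_basicOpen 𝒜 _ _).2 hdx
  obtain ⟨y, rfl⟩ := hx
  have hs := awayι_π 𝒜 𝒞 ι hιdeg π hπ hl hd
  have e1 : Proj.awayι 𝒜 (ι d) (mem_of_mem 𝒜 𝒞 ι hιdeg hd).1 hl ⁻¹ᵁ (π ⁻¹ᵁ Proj.basicOpen 𝒞 c) =
      Proj.awayι 𝒜 (ι d) (mem_of_mem 𝒜 𝒞 ι hιdeg hd).1 hl ⁻¹ᵁ Proj.basicOpen 𝒜 (ι c) := by
    rw [← Scheme.Hom.comp_preimage, hs, Scheme.Hom.comp_preimage,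
      Proj.awayι_preimage_basicOpen 𝒞 hd hl hc hk,
      Proj.awayι_preimage_basicOpen 𝒜 (mem_of_mem 𝒜 𝒞 ι hιdeg hd).1 hl
        (mem_of_mem 𝒜 𝒞 ι hιdeg hc).1 hk]
    refine (SpecMap_preimage_basicOpen _ _).trans ?_
    congr 1
    refine (incl_mk 𝒜 𝒞 ι hιdeg hd _ _ _).trans ?_
    ext
    rw [Away.val_mk, Away.val_mk]
    congr 1
    exact map_pow ι c l
  exact SetLike.ext_iff.1 e1 y

include hgen hGdeg hπ in
theorem exists_chart (x : Proj 𝒜) : ∃ (k : ℕ) (c : C), 0 < k ∧ c ∈ 𝒞 k ∧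
    x ∈ π ⁻¹ᵁ Proj.basicOpen 𝒞 c := by
  obtain ⟨k, c, hk, hc, h⟩ := exists_invariant_notMem 𝒜 hgen hGdeg 𝒞 ι hιdeg x
  refine ⟨k, c, hk, hc, ?_⟩
  rw [preimage_basicOpen 𝒜 hgen hGdeg 𝒞 ι hιdeg π hπ hk hc]
  exact (Proj.mem_basicOpen 𝒜 _ _).2 h

include hgen hι hρ hπ in
theorem isQuot_proj : SGA1.IsQuot ρ π := by
  haveI : IsAffineHom π :=
    isAffineHom_of_forall_exists_isAffineOpen π fun y => by
      obtain ⟨i, c, hc, hipos, hy⟩ : ∃ (i : ℕ) (c : C), c ∈ 𝒞 i ∧ 0 < i ∧ y ∈ Proj.basicOpen 𝒞 c := by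
        by_contra! H
        refine y.not_irrelevant_le fun a ha => ?_
        classical
        rw [← DirectSum.sum_support_decompose 𝒞 a]
        refine sum_mem fun i _ => ?_
        rcases Nat.eq_zero_or_pos i with rfl | hi
        · rw [(HomogeneousIdeal.mem_irrelevant_iff 𝒞 a).1 ha |> fun h =>
            (show (DirectSum.decompose 𝒞 a 0 : C) = 0 from h)]
          exact zero_mem _
        · by_contra hni
          exact H i _ (SetLike.coe_mem _) hi ((Proj.mem_basicOpen 𝒞 _ _).2 hni)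
      refine ⟨Proj.basicOpen 𝒞 c, hy, Proj.isAffineOpen_basicOpen 𝒞 c hc hipos, ?_⟩
      rw [preimage_basicOpen 𝒜 hgen hGdeg 𝒞 ι hιdeg π hπ hipos hc]
      exact Proj.isAffineOpen_basicOpen 𝒜 _ (mem_of_mem 𝒜 𝒞 ι hιdeg hc).1 hipos
  have hinv : ∀ g : G, (ρ g).hom ≫ π = π := fun g => by
    rw [← Iso.eq_inv_comp]
    symm
    let 𝒰 : (Proj 𝒜).OpenCover :=
      Scheme.Cover.mkOfCovers (Σ k : ℕ, {c : C // 0 < k ∧ c ∈ 𝒞 k})
        (fun i => Spec (CommRingCat.of (Away 𝒜 (ι i.2.1))))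
        (fun i => Proj.awayι 𝒜 (ι i.2.1) (mem_of_mem 𝒜 𝒞 ι hιdeg i.2.2.2).1 i.2.2.1)
        (fun x => by
          obtain ⟨k, c, hk, hc, h⟩ := exists_invariant_notMem 𝒜 hgen hGdeg 𝒞 ι hιdeg x
          have hx : x ∈ (Proj.awayι 𝒜 (ι c) (mem_of_mem 𝒜 𝒞 ι hιdeg hc).1 hk).opensRange := by
            rw [Proj.opensRange_awayι]; exact (Proj.mem_basicOpen 𝒜 _ _).2 h
          obtain ⟨y, hy⟩ := hx
          exact ⟨⟨k, c, hk, hc⟩, y, hy⟩)
        fun _ => inferInstance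
    refine 𝒰.hom_ext _ _ fun i => ?_
    obtain ⟨k, c, hk, hc⟩ := i
    change Proj.awayι 𝒜 (ι c) (mem_of_mem 𝒜 𝒞 ι hιdeg hc).1 hk ≫ (ρ g).inv ≫ π =
      Proj.awayι 𝒜 (ι c) (mem_of_mem 𝒜 𝒞 ι hιdeg hc).1 hk ≫ π
    rw [← Category.assoc, awayι_act 𝒜 hGdeg 𝒞 ι hιdeg ρ hρ hk hc g, Category.assoc,
      awayι_π 𝒜 𝒞 ι hιdeg π hπ hk hc, ← Spec.map_comp_assoc]
    congr 2
    refine CommRingCat.hom_ext (RingHom.ext fun z => ?_)
    obtain ⟨m, a, ha, rfl⟩ := Away.mk_surjective 𝒞 hc z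
    change actAway 𝒜 hGdeg 𝒞 ι hιdeg hc g (incl 𝒜 𝒞 ι hιdeg c _) = incl 𝒜 𝒞 ι hιdeg c _
    rw [incl_mk]
    refine (actAway_mk 𝒜 hGdeg 𝒞 ι hιdeg hc g m _ _).trans ?_
    congr 1
    exact (mem_of_mem 𝒜 𝒞 ι hιdeg ha).2 g
  refine SGA1Quot21.isQuot_of_basis ρ π hinv
    (fun W => ∃ (k : ℕ) (c : C), 0 < k ∧ c ∈ 𝒞 k ∧ W = Proj.basicOpen 𝒞 c) (fun U y hy => ?_) ?_ ?_
  · obtain ⟨_, ⟨f, rfl⟩, hyf, hfU⟩ := Opens.isBasis_iff_nbhd.1 (Proj.isBasis_basicOpen 𝒞) hy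
    rw [Proj.basicOpen_eq_iSup_proj, Opens.mem_iSup] at hyf
    obtain ⟨i, hi⟩ := hyf
    have hle : Proj.basicOpen 𝒞 (GradedRing.proj 𝒞 i f) ≤ U :=
      le_trans ((le_iSup (fun i => Proj.basicOpen 𝒞 (GradedRing.proj 𝒞 i f)) i).trans
        (Proj.basicOpen_eq_iSup_proj 𝒞 f).ge) hfU
    obtain ⟨j, d, hj, hdj, hyd⟩ : ∃ (j : ℕ) (d : C), 0 < j ∧ d ∈ 𝒞 j ∧ y ∈ Proj.basicOpen 𝒞 d := by
      by_contra! H
      refine y.not_irrelevant_le fun a ha => ?_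
      classical
      rw [← DirectSum.sum_support_decompose 𝒞 a]
      refine sum_mem fun i _ => ?_
      rcases Nat.eq_zero_or_pos i with rfl | hi
      · rw [show (DirectSum.decompose 𝒞 a 0 : C) = 0 from (HomogeneousIdeal.mem_irrelevant_iff 𝒞 a).1 ha]
        exact zero_mem _
      · by_contra hni
        exact H i _ hi (SetLike.coe_mem _) ((Proj.mem_basicOpen 𝒞 _ _).2 hni)
    refine ⟨_, ⟨i + j, GradedRing.proj 𝒞 i f * d, by omega,
      SetLike.mul_mem_graded (SetLike.coe_mem _) hdj, rfl⟩, ?_, ?_⟩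
    · rw [Proj.basicOpen_mul]; exact ⟨hi, hyd⟩
    · rw [Proj.basicOpen_mul]; exact inf_le_left.trans hle
  · rintro W ⟨k, c, hk, hc, rfl⟩
    have hV := preimage_basicOpen 𝒜 hgen hGdeg 𝒞 ι hιdeg π hπ hk hc
    have h := chart_naturality 𝒜 𝒞 (mem_of_mem 𝒜 𝒞 ι hιdeg hc).1 hk hc hk _ π
      (awayι_π 𝒜 𝒞 ι hιdeg π hπ hk hc) rfl hV le_rfl
    rw [← Scheme.Hom.app_eq_appLE] at h
    intro a b hab
    have h1 : incl 𝒜 𝒞 ι hιdeg c ((chartSec 𝒞 c hc hk rfl).hom a) =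
        incl 𝒜 𝒞 ι hιdeg c ((chartSec 𝒞 c hc hk rfl).hom b) := by
      have ea := ConcreteCategory.congr_hom h a
      have eb := ConcreteCategory.congr_hom h b
      exact ea.symm.trans ((congrArg (fun s => (chartSec 𝒜 _ (mem_of_mem 𝒜 𝒞 ι hιdeg hc).1 hk hV).hom s)
        hab).trans eb)
    exact ((ConcreteCategory.isIso_iff_bijective _).1 (isIso_chartSec 𝒞 c hc hk rfl)).1
      (incl_injective 𝒜 𝒞 ι hι hιdeg hc h1)
  · rintro W ⟨k, c, hk, hc, rfl⟩ s hs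
    have hV := preimage_basicOpen 𝒜 hgen hGdeg 𝒞 ι hιdeg π hπ hk hc
    have h := chart_naturality 𝒜 𝒞 (mem_of_mem 𝒜 𝒞 ι hιdeg hc).1 hk hc hk _ π
      (awayι_π 𝒜 𝒞 ι hιdeg π hπ hk hc) rfl hV le_rfl
    rw [← Scheme.Hom.app_eq_appLE] at h
    let e := chartSec 𝒜 _ (mem_of_mem 𝒜 𝒞 ι hιdeg hc).1 hk hV
    have hfix : ∀ g : G, actAway 𝒜 hGdeg 𝒞 ι hιdeg hc g (e.hom s) = e.hom s := fun g => by
      have h2 := chart_naturality 𝒜 𝒜 (mem_of_mem 𝒜 𝒞 ι hιdeg hc).1 hk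
        (mem_of_mem 𝒜 𝒞 ι hιdeg hc).1 hk _ (ρ g⁻¹).hom
        (by rw [map_inv]; exact awayι_act 𝒜 hGdeg 𝒞 ι hιdeg ρ hρ hk hc g)
        hV hV (SGA1.preimage_le_of_inv ρ π hinv g⁻¹ _)
      have h3 := congrArg (fun q => q.hom s) h2
      simp only [CommRingCat.comp_apply, CommRingCat.hom_ofHom] at h3
      have h4 : ((ρ g⁻¹).hom.appLE (π ⁻¹ᵁ Proj.basicOpen 𝒞 c) (π ⁻¹ᵁ Proj.basicOpen 𝒞 c)
          (SGA1.preimage_le_of_inv ρ π hinv g⁻¹ _)).hom s = s := hs g⁻¹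
      refine Eq.trans ?_ (congrArg e.hom h4)
      exact h3.symm
    obtain ⟨z, hz⟩ := mem_range_incl 𝒜 hGdeg 𝒞 ι hιdeg hc _ hfix
    obtain ⟨t, rfl⟩ := ((ConcreteCategory.isIso_iff_bijective _).1
      (isIso_chartSec 𝒞 c hc hk rfl)).2 z
    refine ⟨t, ((ConcreteCategory.isIso_iff_bijective _).1
      (isIso_chartSec 𝒜 _ (mem_of_mem 𝒜 𝒞 ι hιdeg hc).1 hk hV)).1 ?_⟩
    refine Eq.trans ?_ hz
    exact congrArg (fun q => q.hom t) h

end Quotient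

end GrothLib.Quot17
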